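import Groth.Agent.Lib.Helper31.NIT.Annih

/-!
# Roberts' annihilator theorem, refined form (helper31)

If `c t` kills `H^t_J(A)` for all `t ≤ s`, then `c 0 * c 1 * ⋯ * c (s - i)` kills the degree `i`
homology of every matrix complex of length `s` with `J`-power torsion homology.
-/

set_option autoImplicit false
universe u
open Matrix CategoryTheory Groth.Agent.Lib.Helper60

namespace Groth.Agent.Lib.Helper31.NIT

namespace MC

variable {A : Type u} [CommRing A] (M : MC A)

variable [IsNoetherianRing A] (J : Ideal A) {s : ℕ}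

/-- The main induction, refined: `c j * ⋯ * c (j + m - 1)` kills `H^j_J(B_k)` for `k + m = s`,
`1 ≤ j ≤ k + 1`. -/
theorem kills_lc_B' (hb : M.BddBy s) (N : ℕ) (hN : ∀ x ∈ J ^ N, M.Kills x) (c : ℕ → A)
    (hc : ∀ t, t ≤ s → ∀ y : (localCohomology J t).obj (ModuleCat.of A A), c t • y = 0) :
    ∀ m k, k + m = s → ∀ j, 1 ≤ j → j ≤ k + 1 →
      ∀ y : (localCohomology J j).obj (ModuleCat.of A (M.B k)),
        (∏ t ∈ Finset.range m, c (j + t)) • y = 0 := by
  classical
  intro m
  induction m with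
  | zero =>
    intro k hk j _ _ y
    have hk' : k = s := by omega
    subst hk'
    have hn : M.n (k + 1) = 0 := hb (k + 1) (by omega)
    have : Subsingleton (Fin (M.n (k + 1)) → A) := by
      rw [hn]; infer_instance
    have : Subsingleton (M.B k) := by
      refine ⟨fun a b => Subtype.ext ?_⟩
      obtain ⟨wa, hwa⟩ := a.2
      obtain ⟨wb, hwb⟩ := b.2
      rw [← hwa, ← hwb, Subsingleton.elim wa wb]
    have : Subsingleton (ModuleCat.of A (M.B k)) := this
    rw [lc_eq_zero_of_subsingleton J j _ y, smul_zero]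
  | succ m ih =>
    intro k hk j hj1 hjk y
    have hα := sesOfSurjective_shortExact (M.D k).rangeRestrict
      (LinearMap.surjective_rangeRestrict _)
    have hβ := sesOfInjective_shortExact (Submodule.inclusion (M.B_le_Z' k))
      (Submodule.inclusion_injective _)
    have htors : ∀ x : (sesOfInjective (Submodule.inclusion (M.B_le_Z' k))).X₃,
        ∃ n : ℕ, ∀ a ∈ J ^ n, a • x = 0 := by
      intro x
      obtain ⟨z, rfl⟩ := Submodule.Quotient.mk_surjective _ x
      refine ⟨N, fun a ha => ?_⟩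
      obtain ⟨w, hw⟩ := (hN a ha).2 k z.1 ((M.mem_Z' k z.1).mp z.2)
      show a • (Submodule.Quotient.mk z :
        ↥(M.Z' k) ⧸ LinearMap.range (Submodule.inclusion (M.B_le_Z' k))) = 0
      rw [← Submodule.Quotient.mk_smul, Submodule.Quotient.mk_eq_zero]
      refine ⟨⟨(M.d (k + 1)) *ᵥ w, ⟨w, rfl⟩⟩, Subtype.ext ?_⟩
      exact hw
    have h3 : Subsingleton ((localCohomology J (j + 1)).obj
        (sesOfInjective (Submodule.inclusion (M.B_le_Z' k))).X₃) :=
      lc_subsingleton_of_torsion_succ J j _ htors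
    have hZ : ∀ y : (localCohomology J (j + 1)).obj
        (sesOfSurjective (M.D k).rangeRestrict).X₁,
        (∏ t ∈ Finset.range m, c (j + 1 + t)) • y = 0 := by
      intro y
      exact kill_X₂ J hβ (j + 1) _ h3
        (fun y' => ih (k + 1) (by omega) (j + 1) (by omega) (by omega) y') y
    have hG : ∀ y : (localCohomology J j).obj (sesOfSurjective (M.D k).rangeRestrict).X₂,
        c j • y = 0 := by
      intro y
      exact lc_smul_eq_zero_pi J j A (Fin (M.n (k + 1))) (c j) (hc j (by omega)) y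
    have := kill_X₃ J hα j (c j) _ hG hZ y
    have hprod : (∏ t ∈ Finset.range (m + 1), c (j + t)) =
        c j * ∏ t ∈ Finset.range m, c (j + 1 + t) := by
      rw [Finset.prod_range_succ', mul_comm, add_zero]
      congr 1
      exact Finset.prod_congr rfl (fun t _ => by rw [show j + (t + 1) = j + 1 + t by omega])
    rw [hprod]
    exact this

omit [IsNoetherianRing A] in
/-- final step: from `H^1(B_k)` to the homology; general killer `a`. -/
theorem smul_mem_B' (N : ℕ) (c a : A)
    (hc0 : ∀ y : (localCohomology J 0).obj (ModuleCat.of A A), c • y = 0)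
    (k : ℕ) (hm : ∀ y : (localCohomology J 1).obj (ModuleCat.of A (M.B k)), a • y = 0)
    (Z : Submodule A (Fin (M.n k) → A)) (hBZ : M.B k ≤ Z)
    (hZ : ∀ z ∈ Z, ∀ x ∈ J ^ N, x • z ∈ M.B k) :
    ∀ z ∈ Z, (c * a) • z ∈ M.B k := by
  classical
  intro z hz
  have hS := sesOfInjective_shortExact (Submodule.inclusion hBZ) (Submodule.inclusion_injective _)
  set S := sesOfInjective (Submodule.inclusion hBZ) with hSdef
  let q : S.X₃ := (Submodule.Quotient.mk (⟨z, hz⟩ : Z) :
    Z ⧸ LinearMap.range (Submodule.inclusion hBZ))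
  have hq : ∀ x ∈ J ^ N, x • q = 0 := by
    intro x hx
    show x • (Submodule.Quotient.mk (⟨z, hz⟩ : Z) :
      Z ⧸ LinearMap.range (Submodule.inclusion hBZ)) = 0
    rw [← Submodule.Quotient.mk_smul, Submodule.Quotient.mk_eq_zero]
    refine ⟨⟨x • z, hZ z hz x hx⟩, Subtype.ext ?_⟩
    rfl
  obtain ⟨y₃, hy₃⟩ := exists_lcH0Map_eq J S.X₃ q N hq
  have h1 : lcDelta J hS 0 (a • y₃) = 0 := by
    rw [map_smul]
    exact hm _
  obtain ⟨y₂, hy₂⟩ := lc_exact₃ J hS 0 (a • y₃) h1
  have h2 := lcH0Map_naturality J S.g y₂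
  rw [hy₂, map_smul, hy₃] at h2
  set z₂ : Z := lcH0Map J S.X₂ y₂ with hz₂
  obtain ⟨n₂, hn₂⟩ := lcH0Map_mem_torsionSub J S.X₂ y₂
  have hcz₂ : c • (z₂ : Fin (M.n k) → A) = 0 := by
    ext b
    have : ∀ x ∈ J ^ n₂, x * (z₂ : Fin (M.n k) → A) b = 0 := by
      intro x hx
      have h : (x • z₂ : Z) = 0 := hn₂ x hx
      have := congrArg (fun v : Z => (v : Fin (M.n k) → A) b) h
      simpa using this
    exact smul_eq_zero_of_torsion J c hc0 _ n₂ this
  have h3 : (a • z - (z₂ : Fin (M.n k) → A)) ∈ M.B k := by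
    have h4 : (Submodule.Quotient.mk (a • (⟨z, hz⟩ : Z) - z₂) :
        Z ⧸ LinearMap.range (Submodule.inclusion hBZ)) = 0 := by
      rw [Submodule.Quotient.mk_sub, Submodule.Quotient.mk_smul, sub_eq_zero]
      exact h2
    rw [Submodule.Quotient.mk_eq_zero] at h4
    obtain ⟨b, hb⟩ := h4
    have := congrArg (fun v : Z => (v : Fin (M.n k) → A)) hb
    simp only [Submodule.coe_inclusion, Submodule.coe_sub, Submodule.coe_smul] at this
    rw [← this]
    exact b.2
  have h5 : (c * a) • z = c • (a • z - (z₂ : Fin (M.n k) → A)) := by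
    rw [smul_sub, hcz₂, sub_zero, smul_smul]
  rw [h5]
  exact (M.B k).smul_mem c h3

/-- **Annihilator theorem, refined**: `c 0 * ⋯ * c (s - i)` kills the homology in degree `i`. -/
theorem prod_smul_mem (hb : M.BddBy s) (N : ℕ) (hN : ∀ x ∈ J ^ N, M.Kills x) (c : ℕ → A)
    (hc : ∀ t, t ≤ s → ∀ y : (localCohomology J t).obj (ModuleCat.of A A), c t • y = 0) :
    (∀ z : Fin (M.n 0) → A, ∃ w, (M.d 0).mulVec w = (∏ t ∈ Finset.range (s + 1), c t) • z) ∧
    ∀ i (z : Fin (M.n (i + 1)) → A), (M.d i).mulVec z = 0 → i + 1 ≤ s →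
      ∃ w, (M.d (i + 1)).mulVec w = (∏ t ∈ Finset.range (s - (i + 1) + 1), c t) • z := by
  have hmain := M.kills_lc_B' J hb N hN c hc
  constructor
  · intro z
    have := M.smul_mem_B' J N (c 0) (∏ t ∈ Finset.range s, c (1 + t)) (hc 0 (Nat.zero_le _)) 0
      (fun y => hmain s 0 (by omega) 1 le_rfl (by omega) y) ⊤ le_top
      (fun z _ x hx => by
        obtain ⟨w, hw⟩ := (hN x hx).1 z
        exact ⟨w, hw⟩) z trivial
    obtain ⟨w, hw⟩ := this
    refine ⟨w, ?_⟩
    rw [M.D_apply] at hw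
    rw [hw]
    congr 1
    rw [Finset.prod_range_succ', mul_comm]
    congr 1
    exact Finset.prod_congr rfl (fun t _ => by rw [add_comm])
  · intro i z hz hi
    have := M.smul_mem_B' J N (c 0) (∏ t ∈ Finset.range (s - (i + 1)), c (1 + t))
      (hc 0 (Nat.zero_le _)) (i + 1)
      (fun y => hmain (s - (i + 1)) (i + 1) (by omega) 1 le_rfl (by omega) y) (M.Z' i)
      (M.B_le_Z' i)
      (fun z hz x hx => by
        obtain ⟨w, hw⟩ := (hN x hx).2 i z ((M.mem_Z' i z).mp hz)
        exact ⟨w, hw⟩) z ((M.mem_Z' i z).mpr hz)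
    obtain ⟨w, hw⟩ := this
    refine ⟨w, ?_⟩
    rw [M.D_apply] at hw
    rw [hw]
    congr 1
    rw [Finset.prod_range_succ', mul_comm]
    congr 1
    exact Finset.prod_congr rfl (fun t _ => by rw [add_comm])

end MC

end Groth.Agent.Lib.Helper31.NIT
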