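import Groth.Agent.Lib.Helper31.NIT.Convert

/-!
# From matrix complexes back to chain complexes (helper31)
-/

set_option autoImplicit false
universe u
open Matrix CategoryTheory

namespace Groth.Agent.Lib.Helper31.NIT

section SC

variable {A : Type u} [CommRing A]

/-- if `x • ker ⊆ range` then `x` kills the homology of a short complex of modules. -/
lemma smul_homology_eq_zero (S : ShortComplex (ModuleCat.{u} A)) (x : A)
    (h : ∀ z : S.X₂, S.g.hom z = 0 → ∃ w : S.X₁, S.f.hom w = x • z) (y : S.homology) :
    x • y = 0 := by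
  let e : S.homology ≃ₗ[A] (LinearMap.ker S.g.hom ⧸ LinearMap.range S.moduleCatToCycles) :=
    S.moduleCatHomologyIso.toLinearEquiv
  apply e.injective
  rw [map_smul, map_zero]
  obtain ⟨⟨z, hz⟩, hzy⟩ := Submodule.Quotient.mk_surjective _ (e y)
  rw [← hzy, ← Submodule.Quotient.mk_smul, Submodule.Quotient.mk_eq_zero]
  obtain ⟨w, hw⟩ := h z hz
  exact ⟨w, Subtype.ext hw⟩

end SC

section Chain

variable {A : Type u} [CommRing A] [Nontrivial A]
  (F : ChainComplex (ModuleCat.{u} A) ℕ)
  (hfree : ∀ i, Module.Free A (F.X i) ∧ Module.Finite A (F.X i))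

/-- degree `0`. -/
lemma smul_homology_zero_eq_zero (x : A)
    (h : ∀ z' : Fin ((ofChain F hfree).n 0) → A, ∃ w', ((ofChain F hfree).d 0) *ᵥ w' = x • z')
    (y : F.homology 0) : x • y = 0 := by
  let e := (F.homologyIsoSc' 1 0 0 (by simp) (by simp)).toLinearEquiv
  apply e.injective
  rw [map_smul, map_zero]
  apply smul_homology_eq_zero (F.sc' 1 0 0) x
  intro z _
  obtain ⟨w', hw'⟩ := h ((bas F hfree 0).equivFun z)
  refine ⟨(bas F hfree 1).equivFun.symm w', ?_⟩
  apply (bas F hfree 0).equivFun.injective
  show (bas F hfree 0).equivFun ((F.d 1 0).hom ((bas F hfree 1).equivFun.symm w')) = _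
  rw [← ofChain_mulVec, LinearEquiv.apply_symm_apply, hw']
  exact (map_smul _ _ _).symm

/-- degree `i + 1`. -/
lemma smul_homology_succ_eq_zero (x : A) (i : ℕ)
    (h : ∀ z' : Fin ((ofChain F hfree).n (i + 1)) → A, ((ofChain F hfree).d i) *ᵥ z' = 0 →
      ∃ w', ((ofChain F hfree).d (i + 1)) *ᵥ w' = x • z')
    (y : F.homology (i + 1)) : x • y = 0 := by
  let e := (F.homologyIsoSc' (i + 2) (i + 1) i (by simp) (by simp)).toLinearEquiv
  apply e.injective
  rw [map_smul, map_zero]
  apply smul_homology_eq_zero (F.sc' (i + 2) (i + 1) i) x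
  intro z hz
  have hz0 : (F.d (i + 1) i).hom z = 0 := hz
  obtain ⟨w', hw'⟩ := h ((bas F hfree (i + 1)).equivFun z) (by
    rw [ofChain_mulVec, hz0, map_zero]
    rfl)
  refine ⟨(bas F hfree (i + 2)).equivFun.symm w', ?_⟩
  apply (bas F hfree (i + 1)).equivFun.injective
  show (bas F hfree (i + 1)).equivFun
    ((F.d (i + 2) (i + 1)).hom ((bas F hfree (i + 2)).equivFun.symm w')) = _
  rw [← ofChain_mulVec, LinearEquiv.apply_symm_apply, hw']
  exact (map_smul _ _ _).symm

end Chain

section IdealProd

variable {A : Type u} [CommRing A]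

/-- a product of ideals lies in `K` as soon as all products of elements do. -/
lemma prod_range_le (I : ℕ → Ideal A) (n : ℕ) : ∀ (K : Ideal A),
    (∀ c : ℕ → A, (∀ t, t < n → c t ∈ I t) → (∏ t ∈ Finset.range n, c t) ∈ K) →
    (∏ t ∈ Finset.range n, I t) ≤ K := by
  classical
  induction n with
  | zero =>
    intro K h
    have h1 : (1 : A) ∈ K := by simpa using h (fun _ => 0) (fun t ht => absurd ht (Nat.not_lt_zero t))
    rw [(Ideal.eq_top_iff_one K).mpr h1]
    exact le_top
  | succ n ih =>
    intro K h
    rw [Finset.prod_range_succ, Ideal.mul_le]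
    intro r hr x hx
    let K' : Ideal A := Submodule.comap (LinearMap.mulRight A x) K
    have hK' : (∏ t ∈ Finset.range n, I t) ≤ K' := by
      apply ih
      intro c hc
      show (∏ t ∈ Finset.range n, c t) * x ∈ K
      have := h (fun t => if t = n then x else c t) (fun t ht => by
        by_cases htn : t = n
        · simp only [htn, if_true]; exact hx
        · simp only [htn, if_false]; exact hc t (by omega))
      rw [Finset.prod_range_succ] at this
      simp only [if_true] at this
      have h2 : (∏ t ∈ Finset.range n, (if t = n then x else c t)) = ∏ t ∈ Finset.range n, c t := by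
        apply Finset.prod_congr rfl
        intro t ht
        rw [if_neg (by rw [Finset.mem_range] at ht; omega)]
      rwa [h2] at this
    exact hK' hr

end IdealProd

end Groth.Agent.Lib.Helper31.NIT
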